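import Mathlib
import Cfsg.Agent.Lib.Comput.NetModel

/-! generated by tools/cgt -/

set_option autoImplicit false
set_option maxRecDepth 100000
set_option Elab.async false

namespace CfsgLib.LieModel.A7.P

open CfsgLib.Comput

noncomputable def n0 : Net :=
  Net.cons 1 0x15
  (Net.cons 4 0x4
  (Net.cons 2 0x11
  (Net.nil)))

noncomputable def n2 : Net :=
  Net.cons 1 0x10
  (Net.cons 2 0x10
  (Net.nil))

noncomputable def n4 : Net :=
  Net.cons 2 0x2
  (Net.cons 4 0x2
  (Net.cons 1 0x14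
  (Net.nil)))

noncomputable def n6 : Net :=
  Net.cons 4 0x4
  (Net.cons 1 0x4
  (Net.nil))

noncomputable def n8 : Net :=
  Net.cons 2 0x2
  (Net.cons 4 0x2
  (Net.cons 2 0x12
  (Net.cons 1 0x14
  (Net.nil))))

noncomputable def n10 : Net :=
  Net.cons 1 0x10
  (Net.cons 2 0x2
  (Net.cons 4 0x2
  (Net.cons 2 0x12
  (Net.cons 1 0x10
  (Net.nil)))))

noncomputable def n11 : Net :=
  Net.cons 1 0x10
  (Net.cons 2 0x10
  (Net.nil))

noncomputable def n13 : Net :=
  Net.cons 2 0x10
  (Net.cons 1 0x10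
  (Net.nil))

noncomputable def W : List Net := [n0, n0.rev, n2, n2.rev, n4, n4.rev, n6, n6.rev, n8, n8.rev, n10, n11, n11.rev, n13, n13.rev]

theorem W_ok : allL (Net.ok 7) W = true := by decide +kernel

end CfsgLib.LieModel.A7.P
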