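import Mathlib
import Cfsg.Agent.Lib.Comput.Check3
import Cfsg.Agent.Lib.LieModel.A7.P.Data

/-! generated by tools/cgt -/

set_option autoImplicit false
set_option maxRecDepth 100000
set_option Elab.async false

namespace CfsgLib.LieModel.A7.P

open CfsgLib.Comput

def R4_0 : RepC := ⟨14, 1, [],
  []⟩
def R4_1 : RepC := ⟨15, 1, [],
  []⟩
def S4_0 : GenC := ⟨15, [],
  [(0, 0, 0, 2, 0), (0, 1, 0, 0, 0), (0, 2, 0, 1, 0)], 0⟩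
def L4 : Level := ⟨0x0, 0x6000, [], 1, 4, 0, 3, [R4_0, R4_1], [S4_0]⟩
def X4 : Ext := [(13, 15, 0)]

def R3_0 : RepC := ⟨11, 3, [],
  []⟩
def S3_0 : GenC := ⟨11, [],
  [(0, 0, 0, 1, 0), (0, 1, 0, 0, 0), (15, 1, 14, 1, 14), (14, 1, 15, 1, 15)], 0⟩
def L3 : Level := ⟨0x6000, 0x7c00, [15], 3, 3, 0, 4, [R3_0], [S3_0]⟩
def X3 : Ext := [(11, 0, 15), (12, 12, 0)]

def R2_0 : RepC := ⟨8, 4, [(15, 0xb0e)],
  [(4, 2, [1])]⟩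
def S2_0 : GenC := ⟨8, [(0xb0e, 15)],
  [(0, 0, 0, 1, 0), (0xe0b, 1, 0, 0, 0xb0f), (0, 1, 0xe0b, 1, 0xe0b)], 2⟩
def L2 : Level := ⟨0x7c00, 0x7fc0, [11, 15], 12, 2, 0, 5, [R2_0], [S2_0]⟩
def X2 : Ext := [(6, 8, 0), (8, 0, 0x80b), (9, 9, 0)]

def R1_0 : RepC := ⟨5, 5, [(0xf0b, 0xb080e0b0e), (11, 0x80e0b)],
  [(6, 2, [1, 2]), (5, 2, [1])]⟩
def S1_0 : GenC := ⟨6, [(15, 0xb0f), (0xb0f, 8)],
  [(0, 0, 10, 1, 10), (0, 1, 0, 0, 0), (10, 1, 0xb08, 1, 0xa0f0b0e)], 2⟩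
def L1 : Level := ⟨0x7fc0, 0x7ffc, [8, 11, 15], 60, 1, 0, 6, [R1_0], [S1_0]⟩
def X1 : Ext := [(4, 6, 0), (2, 0, 15), (3, 3, 0)]

def R0_0 : RepC := ⟨1, 6, [(0xf0b, 0xb080e0b0e), (15, 0xb0e), (0x80b0e, 5)],
  [(2, 2, [1, 2, 3]), (6, 2, [1, 2]), (4, 2, [1])]⟩
def S0_0 : GenC := ⟨2, [(0x70e, 6)],
  [(0, 0, 0xf06, 1, 0xf06), (0, 1, 0, 0, 0), (6, 1, 0xe06, 1, 0xf06)], 4⟩
def L0 : Level := ⟨0x7ffc, 0x7fff, [6, 8, 11, 15], 360, 0, 0, 7, [R0_0], [S0_0]⟩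
def X0 : Ext := [(0, 2, 0)]

def top : List ℕ := [1, 3]
def gs : List ℕ := [2, 6, 8, 11, 15]
def XD : Ext := [(1, 1, 0), (3, 3, 0), (4, 0, 0x101030302), (5, 5, 0), (6, 0, 0x606040505), (7, 7, 0), (8, 0, 0x504050306), (9, 9, 0), (10, 0, 0x709), (11, 0, 0x8090908), (12, 12, 0), (13, 0, 0xb0c0b0c0b), (14, 14, 0)]
def MX : Level.MaxC := [[(0xf06, [0xf06])]]
def NC : NclD := ⟨2, 7, [(0, [0x80e0e0b, 0xb08]), (2, [3, 0x6070f0b0f])]⟩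

/-- all the equations of the certificate -/
structure Eqs {G : Type*} [Group G] (g : ℕ → G) : Prop where
  l4 : AllHold g L4.eqns
  x4 : AllHold g X4.eqns
  l3 : AllHold g L3.eqns
  x3 : AllHold g X3.eqns
  l2 : AllHold g L2.eqns
  x2 : AllHold g X2.eqns
  l1 : AllHold g L1.eqns
  x1 : AllHold g X1.eqns
  l0 : AllHold g L0.eqns
  x0 : AllHold g X0.eqns
  xd : AllHold g XD.eqns
  mx : AllHold g (L0.maxEqns MX)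
  nc : AllHold g NC.eqns

end CfsgLib.LieModel.A7.P
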